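import Groth.Agent.TwistX.Global
import Groth.Agent.InvX.Pullback
import Groth.Agent.RelVA16.FrameIso
import Groth.Agent.ProjPt.Sections

/-!
# Inverse images of twisting sheaves under morphisms induced by graded homomorphisms
-/

universe u

open CategoryTheory AlgebraicGeometry TopologicalSpace Opposite HomogeneousLocalization

set_option backward.isDefEq.respectTransparency false
set_option backward.isDefEq.respectTransparency.types false
set_option linter.style.haveILetI false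

noncomputable section

namespace Groth.Agent.TwistPull17

open Groth.Agent Groth.Agent.AModX Groth.Agent.TwistX

variable {R A B : Type u} [CommRing R] [CommRing A] [Algebra R A] {𝒜 : ℕ → Submodule R A} [GradedAlgebra 𝒜]
  [CommRing B] [Algebra R B] {ℬ : ℕ → Submodule R B} [GradedAlgebra ℬ]

theorem awayToSection_val {f num : A} {d k : ℕ} (hf : f ∈ 𝒜 d) (hn : num ∈ 𝒜 (k • d)) (x : Proj.basicOpen 𝒜 f) :
    (((Proj.awayToSection 𝒜 f).hom (Away.mk 𝒜 hf k num hn)).1 x).val =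
      (Localization.mk num ⟨f ^ k, notMem_pow x.2 k⟩ : Twist.Loc 𝒜 x.1) := by
  erw [ProjectiveSpectrum.Proj.awayToSection_apply]
  rw [Away.val_mk, Localization.mk_eq_mk' (M := Submonoid.powers f), IsLocalization.map_mk',
    ← Localization.mk_eq_mk', Localization.mk_eq_mk_iff, Localization.r_iff_exists]
  exact ⟨1, by simp⟩

theorem one_notMem (x : ProjectiveSpectrum 𝒜) : (1 : A) ∉ x.asHomogeneousIdeal :=
  fun h => x.isPrime.ne_top ((Ideal.eq_top_iff_one _).mpr h)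

/-- The power `a ^ n` as an invertible fraction. -/
def frac {a : A} (ha : a ∈ 𝒜 1) (n : ℤ) (U : Opens (ProjectiveSpectrum.top 𝒜))
    (hU : NonVan (𝒜 := 𝒜) a U) : UnitFrac (𝒜 := 𝒜) n U where
  i := n.toNat
  j := (-n).toNat
  num := a ^ n.toNat
  den := a ^ (-n).toNat
  num_mem := by simpa using SetLike.pow_mem_graded n.toNat ha
  den_mem := by simpa using SetLike.pow_mem_graded (-n).toNat ha
  deg := by omega
  num_ne x := notMem_pow (hU x) _
  den_ne x := notMem_pow (hU x) _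

/-- The section `a ^ n` of `O(n)` on an open of the basic open of `a`. -/
def frame {a : A} (ha : a ∈ 𝒜 1) (n : ℤ) (U : (Proj 𝒜).Opens) (hU : U ≤ Proj.basicOpen 𝒜 a) :
    Γ(Twist.twist 𝒜 n, U) :=
  fracSect (frac ha n U fun x => hU x.2)

theorem isFrame_frame {a : A} (ha : a ∈ 𝒜 1) (n : ℤ) (U : (Proj 𝒜).Opens) (hU : U ≤ Proj.basicOpen 𝒜 a) :
    InvX.IsFrame (frame ha n U hU) :=
  isFrame_fracSect _

theorem num_mem {a b : A} (ha : a ∈ 𝒜 1) (hb : b ∈ 𝒜 1) (n : ℤ) :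
    b ^ (2 * n.toNat) * a ^ (2 * (-n).toNat) ∈ 𝒜 ((n.toNat + (-n).toNat) • 2) := by
  have := SetLike.mul_mem_graded (SetLike.pow_mem_graded (2 * n.toNat) hb)
    (SetLike.pow_mem_graded (2 * (-n).toNat) ha)
  simp only [smul_eq_mul, mul_one] at this ⊢
  convert this using 2
  ring

/-- The transition fraction. -/
def transFrac {a b f : A} (hf : f ∈ 𝒜 2) (ha : a ∈ 𝒜 1) (hb : b ∈ 𝒜 1) (n : ℤ) : Away 𝒜 f :=
  Away.mk 𝒜 hf (n.toNat + (-n).toNat) (b ^ (2 * n.toNat) * a ^ (2 * (-n).toNat)) (num_mem ha hb n)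

theorem map_transFrac (φ : 𝒜 →+*ᵍ ℬ) {a b f : A} (hf : f ∈ 𝒜 2) (ha : a ∈ 𝒜 1) (hb : b ∈ 𝒜 1) (n : ℤ) :
    Away.map φ f (transFrac hf ha hb n) = transFrac (φ.2 hf) (φ.2 ha) (φ.2 hb) n := by
  apply HomogeneousLocalization.val_injective
  simp [transFrac, Away.map_mk, map_mul, map_pow]

theorem res_frame {a b f : A} (hf : f ∈ 𝒜 2) (hab : f = a * b) (ha : a ∈ 𝒜 1) (hb : b ∈ 𝒜 1) (n : ℤ)
    {U V W : (Proj 𝒜).Opens} (hU : U ≤ Proj.basicOpen 𝒜 a) (hV : V ≤ Proj.basicOpen 𝒜 b)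
    (hWU : W ≤ U) (hWV : W ≤ V) (hWf : W ≤ Proj.basicOpen 𝒜 f) :
    res (Twist.twist 𝒜 n) hWV (frame hb n V hV) =
      resR hWf ((Proj.awayToSection 𝒜 f).hom (transFrac hf ha hb n)) •
        res (Twist.twist 𝒜 n) hWU (frame ha n U hU) := by
  refine Subtype.ext (funext fun x => Subtype.ext ?_)
  refine Eq.trans ?_ (Twist.coe_smul_val n x.1 _ _).symm
  show (Localization.mk (b ^ n.toNat) _ : Twist.Loc 𝒜 x.1) =
    (((Proj.awayToSection 𝒜 f).hom (transFrac hf ha hb n)).1 ⟨x.1, hWf x.2⟩ : Twist.A0 𝒜 x.1).val *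
      Localization.mk (a ^ n.toNat) _
  rw [transFrac, awayToSection_val hf (num_mem ha hb n) ⟨x.1, hWf x.2⟩, Localization.mk_mul,
    Localization.mk_eq_mk_iff, Localization.r_iff_exists]
  refine ⟨1, ?_⟩
  simp only [frac, OneMemClass.coe_one, one_mul, Submonoid.coe_mul]
  subst hab
  ring

/-- The data of a morphism induced by a graded homomorphism, on an open. -/
structure IsInduced (φ : 𝒜 →+*ᵍ ℬ) (V : (Proj ℬ).Opens) (q : (V : Scheme.{u}) ⟶ Proj 𝒜) : Prop where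
  preimage : ∀ (d : ℕ) (f : A), 0 < d → f ∈ 𝒜 d → q ⁻¹ᵁ Proj.basicOpen 𝒜 f = V.ι ⁻¹ᵁ Proj.basicOpen ℬ (φ f)
  chart : ∀ (d : ℕ) (f : A) (hd : 0 < d) (hf : f ∈ 𝒜 d),
    ∃ c : Spec (CommRingCat.of (Away ℬ (φ f))) ⟶ (V : Scheme.{u}),
      c ≫ V.ι = Proj.awayι ℬ (φ f) (φ.2 hf) hd ∧
        c ≫ q = Spec.map (CommRingCat.ofHom (Away.map φ f)) ≫ Proj.awayι 𝒜 f hf hd

variable {φ : 𝒜 →+*ᵍ ℬ} {V : (Proj ℬ).Opens} {q : (V : Scheme.{u}) ⟶ Proj 𝒜}

theorem IsInduced.image_le (hq : IsInduced φ V q) {d : ℕ} {f : A} (hd : 0 < d) (hf : f ∈ 𝒜 d) :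
    V.ι ''ᵁ (q ⁻¹ᵁ Proj.basicOpen 𝒜 f) ≤ Proj.basicOpen ℬ (φ f) := by
  rw [hq.preimage d f hd hf]
  exact V.ι.image_preimage_le _

/-- The morphism on sections over basic opens. -/
theorem IsInduced.app_awayToSection (hq : IsInduced φ V q) {d : ℕ} {f : A} (hd : 0 < d) (hf : f ∈ 𝒜 d)
    (s : Away 𝒜 f) :
    (show Γ(Proj ℬ, V.ι ''ᵁ (q ⁻¹ᵁ Proj.basicOpen 𝒜 f)) from
      (q.app (Proj.basicOpen 𝒜 f)).hom ((Proj.awayToSection 𝒜 f).hom s)) =
      resR (hq.image_le hd hf) ((Proj.awayToSection ℬ (φ f)).hom (Away.map φ f s)) := by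
  obtain ⟨c, hc, hcq⟩ := hq.chart d f hd hf
  haveI : IsOpenImmersion (c ≫ V.ι) := by rw [hc]; infer_instance
  haveI : IsOpenImmersion c := IsOpenImmersion.of_comp c V.ι
  let D := q ⁻¹ᵁ Proj.basicOpen 𝒜 f
  have hD : D = V.ι ⁻¹ᵁ Proj.basicOpen ℬ (φ f) := hq.preimage d f hd hf
  have hrange : c.opensRange = D := by
    rw [hD, ← Proj.opensRange_awayι ℬ (φ f) (φ.2 hf) hd]
    refine Opens.ext (Set.ext fun z => ⟨?_, ?_⟩)
    · rintro ⟨w, rfl⟩
      refine ⟨w, ?_⟩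
      rw [← hc]
      rfl
    · rintro ⟨w, hw⟩
      refine ⟨w, V.ι.isOpenEmbedding.injective ?_⟩
      rw [← hw, ← hc]
      rfl
  have eD : (⊤ : (Spec (CommRingCat.of (Away ℬ (φ f)))).Opens) ≤ c ⁻¹ᵁ D := by
    rw [← hrange, Scheme.Hom.preimage_opensRange]
  haveI : IsIso (c.app D) := c.isIso_app D hrange.ge
  have hinj : Function.Injective (c.appLE D ⊤ eD) := by
    have : IsIso (c.appLE D ⊤ eD) := by
      rw [Scheme.Hom.appLE]
      haveI : IsIso ((Spec (CommRingCat.of (Away ℬ (φ f)))).presheaf.map (homOfLE eD).op) := by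
        rw [show homOfLE eD = eqToHom (le_antisymm eD le_top) from Subsingleton.elim _ _]
        infer_instance
      infer_instance
    exact ((ConcreteCategory.isIso_iff_bijective _).1 this).1
  apply hinj
  have e1 : (⊤ : (Spec (CommRingCat.of (Away 𝒜 f))).Opens) ≤
      Proj.awayι 𝒜 f hf hd ⁻¹ᵁ Proj.basicOpen 𝒜 f := by
    rw [← Proj.opensRange_awayι 𝒜 f hf hd, Scheme.Hom.preimage_opensRange]
  have e2 : (⊤ : (Spec (CommRingCat.of (Away ℬ (φ f)))).Opens) ≤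
      Proj.awayι ℬ (φ f) (φ.2 hf) hd ⁻¹ᵁ Proj.basicOpen ℬ (φ f) := by
    rw [← Proj.opensRange_awayι ℬ (φ f) (φ.2 hf) hd, Scheme.Hom.preimage_opensRange]
  have hl : Proj.awayToSection 𝒜 f ≫ q.app (Proj.basicOpen 𝒜 f) ≫ c.appLE D ⊤ eD =
      CommRingCat.ofHom (Away.map φ f) ≫ (Scheme.ΓSpecIso (CommRingCat.of (Away ℬ (φ f)))).inv := by
    have h0 : q.app (Proj.basicOpen 𝒜 f) ≫ c.appLE D ⊤ eD = (c ≫ q).appLE (Proj.basicOpen 𝒜 f) ⊤ eD :=
      (Scheme.Hom.comp_appLE c q _ _ _).symm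
    rw [h0]
    simp only [hcq]
    rw [← Scheme.Hom.appLE_comp_appLE (Spec.map (CommRingCat.ofHom (Away.map φ f))) (Proj.awayι 𝒜 f hf hd)
      (Proj.basicOpen 𝒜 f) ⊤ ⊤ e1 le_top, ← Category.assoc, ProjPt.awayι_appLE 𝒜 hf hd e1]
    rw [show (Spec.map (CommRingCat.ofHom (Away.map φ f))).appLE ⊤ ⊤ le_top =
      (Spec.map (CommRingCat.ofHom (Away.map φ f))).appTop from (Scheme.Hom.app_eq_appLE _ (U := ⊤)).symm]
    exact (Scheme.ΓSpecIso_inv_naturality _).symm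
  have hr : Proj.awayToSection ℬ (φ f) ≫ V.ι.appLE (Proj.basicOpen ℬ (φ f)) D hD.le ≫ c.appLE D ⊤ eD =
      (Scheme.ΓSpecIso (CommRingCat.of (Away ℬ (φ f)))).inv := by
    rw [Scheme.Hom.appLE_comp_appLE]
    simp only [hc]
    exact ProjPt.awayι_appLE ℬ (φ.2 hf) hd e2
  refine (ConcreteCategory.congr_hom hl s).trans ((ConcreteCategory.congr_hom hr (Away.map φ f s)).symm.trans ?_)
  refine congrArg (c.appLE D ⊤ eD) ?_
  rw [Scheme.Opens.ι_appLE]
  rfl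

/-- Inverse images of twisting sheaves are twisting sheaves. -/
theorem IsInduced.nonempty_pullback_iso (hq : IsInduced φ V q)
    (hcov : ∀ y : Proj 𝒜, ∃ a ∈ 𝒜 1, y ∈ Proj.basicOpen 𝒜 a) (n : ℤ) :
    Nonempty ((Scheme.Modules.pullback q).obj (Twist.twist 𝒜 n) ≅ (Twist.twist ℬ n).restrict V.ι) := by
  let M := (Scheme.Modules.pullback q).obj (Twist.twist 𝒜 n)
  let N := (Twist.twist ℬ n).restrict V.ι
  let U : {a : A // a ∈ 𝒜 1} → (V : Scheme.{u}).Opens := fun a => q ⁻¹ᵁ Proj.basicOpen 𝒜 a.1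
  let e : ∀ a, Γ(M, U a) := fun a => InvX.pullElt q (frame a.2 n (Proj.basicOpen 𝒜 a.1) le_rfl)
  let m : ∀ a, Γ(N, U a) := fun a => frame (φ.2 a.2) n (V.ι ''ᵁ U a) (hq.image_le one_pos a.2)
  have he : ∀ a, InvX.IsFrame (e a) := fun a => InvX.isFrame_pullElt q (isFrame_frame _ _ _ _)
  have hsmul : ∀ (W : (V : Scheme.{u}).Opens) (g : Γ((V : Scheme.{u}), W)) (z : Γ(N, W)),
      g • z = (show Γ(Proj ℬ, V.ι ''ᵁ W) from g) • (show Γ(Twist.twist ℬ n, V.ι ''ᵁ W) from z) := fun W g z => by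
    refine Eq.trans (b := (V.ι.appIso W).inv.hom g • (show Γ(Twist.twist ℬ n, V.ι ''ᵁ W) from z)) rfl ?_
    rw [Scheme.Opens.ι_appIso]
    rfl
  have hm : ∀ a, InvX.IsFrame (m a) := fun a W hW => by
    have := isFrame_frame (φ.2 a.2) n (V.ι ''ᵁ U a) (hq.image_le one_pos a.2) (V.ι ''ᵁ W) (V.ι.image_mono hW)
    have h : (fun r : Γ((V : Scheme.{u}), W) => r • res N hW (m a)) =
        fun r => (show Γ(Proj ℬ, V.ι ''ᵁ W) from r) •
          res (Twist.twist ℬ n) (V.ι.image_mono hW) (m a) := funext fun r => hsmul W r _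
    rw [h]
    exact this
  have hU : ∀ x, ∃ a, x ∈ U a := fun x => by
    obtain ⟨a, ha, hx⟩ := hcov (q x)
    exact ⟨⟨a, ha⟩, hx⟩
  refine (RelVA16.exists_iso_of_frames U hU e he m hm fun a b W ha hb g hg => ?_).nonempty
  let f := a.1 * b.1
  have hf : f ∈ 𝒜 2 := SetLike.mul_mem_graded a.2 b.2
  let D := Proj.basicOpen 𝒜 f
  have hDa : D ≤ Proj.basicOpen 𝒜 a.1 := (Proj.basicOpen_mul 𝒜 a.1 b.1).trans_le inf_le_left
  have hDb : D ≤ Proj.basicOpen 𝒜 b.1 := (Proj.basicOpen_mul 𝒜 a.1 b.1).trans_le inf_le_right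
  have hW : W ≤ q ⁻¹ᵁ D := fun x hx => (Proj.basicOpen_mul 𝒜 a.1 b.1).ge ⟨ha hx, hb hx⟩
  let G := (Proj.awayToSection 𝒜 f).hom (transFrac hf a.2 b.2 n)
  have hη : res M hb (e b) = resR hW ((q.app D).hom G) • res M ha (e a) := by
    let η : Twist.twist 𝒜 n ⟶ (Scheme.Modules.pushforward q).obj M :=
      (Scheme.Modules.pullbackPushforwardAdjunction q).unit.app (Twist.twist 𝒜 n)
    have h1 := congrArg (η.app D) (res_frame hf rfl a.2 b.2 n (le_refl (Proj.basicOpen 𝒜 a.1))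
      (le_refl (Proj.basicOpen 𝒜 b.1)) hDa hDb le_rfl)
    rw [Scheme.Modules.Hom.app_smul, app_res, app_res] at h1
    have h2 : res M (q.preimage_mono hDb) (e b) =
        (q.app D).hom G • res M (q.preimage_mono hDa) (e a) := by
      refine (Eq.trans ?_ (h1.trans ?_))
      · rfl
      · rw [show resR (le_refl D) ((Proj.awayToSection 𝒜 f).hom (transFrac hf a.2 b.2 n)) = G from resR_self _]
        rfl
    have h3 := congrArg (res M hW) h2
    rw [res_smul, res_res, res_res] at h3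
    exact h3
  rw [(he a).coord_unique ha (hg.symm.trans hη)]
  refine Eq.trans ?_ (hsmul W _ _).symm
  have hWf : V.ι ''ᵁ W ≤ Proj.basicOpen ℬ (φ f) := (V.ι.image_mono hW).trans (hq.image_le two_pos hf)
  refine (res_frame (φ.2 hf) (map_mul φ a.1 b.1) (φ.2 a.2) (φ.2 b.2) n (hq.image_le one_pos a.2)
    (hq.image_le one_pos b.2) (V.ι.image_mono ha) (V.ι.image_mono hb) hWf).trans (congrArg (fun t => t • _) ?_)
  rw [← map_transFrac φ hf a.2 b.2 n]
  exact ((congrArg (resR (V.ι.image_mono hW)) (hq.app_awayToSection two_pos hf (transFrac hf a.2 b.2 n))).trans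
    (resR_resR _ _ _)).symm

end Groth.Agent.TwistPull17
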